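import Groth.Agent.FittLib.Basic

set_option autoImplicit false

/-! Fitting ideals via minors, and of direct sums. -/

namespace Groth.Agent.FittLib

universe u v

variable {R : Type u} [CommRing R] {M : Type v} [AddCommGroup M] [Module R M]

/-- A matrix with unit rows off `T` has determinant equal to its `T × T` minor. -/
lemma det_eq_minor {n r : ℕ} (a : Matrix (Fin n) (Fin n) R) (T : Finset (Fin n))
    (hunit : ∀ i ∉ T, a i = Pi.single i 1) (ε : Fin r ≃ T) :
    a.det = (Matrix.of fun p q : Fin r ↦ a (ε p) (ε q)).det := by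
  classical
  rw [Matrix.twoBlockTriangular_det a (fun i ↦ i ∈ T) (fun i hi j hj ↦ by
    rw [hunit i hi]
    exact Pi.single_eq_of_ne (fun h : j = i ↦ hi (by rwa [← h])) _)]
  have h1 : a.toSquareBlockProp (fun i ↦ ¬ i ∈ T) = 1 := by
    ext i j
    simp [Matrix.toSquareBlockProp_def, hunit i.1 i.2, Matrix.one_apply, Pi.single_apply,
      Subtype.ext_iff, eq_comm]
  rw [h1, Matrix.det_one, mul_one]
  let ε' : Fin r ≃ {i // i ∈ T} := ε
  convert (Matrix.det_submatrix_equiv_self ε' (a.toSquareBlockProp fun i ↦ i ∈ T)).symm using 1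
  · congr!
  · rfl

theorem ideal_eq_minors {n : ℕ} (x : Fin n → M) (hx : Submodule.span R (Set.range x) = ⊤) (k : ℕ) :
    Fitt.ideal R M k = Ideal.span {d | ∃ (z : Fin (n - k) → (Fin n → R))
      (e : Fin (n - k) → Fin n), (∀ j, ∑ i, z j i • x i = 0) ∧
        d = (Matrix.of fun a b => z b (e a)).det} := by
  classical
  rw [ideal_eq_D x hx, D_eq_span_gen x _ (Submodule.span_eq (Rel (R := R) x)) k]
  refine le_antisymm (Ideal.span_le.2 ?_) (Ideal.span_le.2 ?_)
  · rintro _ ⟨a, T, hT, ha, hu, rfl⟩
    choose c hc using hu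
    by_cases hinj : Function.Injective fun i : {i // i ∉ T} ↦ c i.1 i.2
    · let π := (Equiv.ofInjective _ hinj).extendSubtype
      have hπ : ∀ i (hi : i ∉ T), π i = c i hi := fun i hi ↦
        (Equiv.ofInjective _ hinj).extendSubtype_apply_of_mem i hi
      have hdet := det_eq_minor (a.submatrix id π) T (fun i hi ↦ by
        funext j
        simp only [Matrix.submatrix_apply, id_eq, hc i hi, Pi.single_apply, ← hπ i hi,
          π.injective.eq_iff]) (T.orderIsoOfFin hT).toEquiv
      rw [Matrix.det_permute'] at hdet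
      have hmem : ((Matrix.of fun p q : Fin (n - k) ↦
          (a.submatrix id π) ((T.orderIsoOfFin hT).toEquiv p) ((T.orderIsoOfFin hT).toEquiv q)).det) ∈
          Ideal.span {d | ∃ (z : Fin (n - k) → (Fin n → R))
            (e : Fin (n - k) → Fin n), (∀ j, ∑ i, z j i • x i = 0) ∧
              d = (Matrix.of fun a b => z b (e a)).det} := by
        refine Ideal.subset_span ⟨fun p ↦ a ((T.orderIsoOfFin hT).toEquiv p),
          fun q ↦ π ((T.orderIsoOfFin hT).toEquiv q), fun j ↦ mem_rel.1 (ha _ (Subtype.prop _)), ?_⟩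
        rw [← Matrix.det_transpose]
        rfl
      rw [← hdet] at hmem
      rcases Int.units_eq_one_or (Equiv.Perm.sign π) with h | h <;> simpa [h] using hmem
    · rw [Function.not_injective_iff] at hinj
      obtain ⟨i, j, hij, hne⟩ := hinj
      rw [SetLike.mem_coe, Matrix.det_zero_of_row_eq (i := i.1) (j := j.1)
        (fun h ↦ hne (Subtype.ext h)) (by
          rw [hc i.1 i.2, hc j.1 j.2]
          exact congrArg (fun l ↦ (Pi.single l (1 : R) : Fin n → R)) hij)]
      exact zero_mem _
  · rintro _ ⟨z, e, hz, rfl⟩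
    by_cases he : Function.Injective e
    · let T : Finset (Fin n) := Finset.univ.image e
      have heT : ∀ p, e p ∈ T := fun p ↦ Finset.mem_image_of_mem e (Finset.mem_univ p)
      let ε : Fin (n - k) ≃ T := Equiv.ofBijective (fun p ↦ ⟨e p, heT p⟩)
        ⟨fun p q h ↦ he (congrArg Subtype.val h), fun ⟨i, hi⟩ ↦ by
          obtain ⟨p, -, rfl⟩ := Finset.mem_image.1 hi
          exact ⟨p, rfl⟩⟩
      let a : Matrix (Fin n) (Fin n) R :=
        fun i ↦ if hi : i ∈ T then z (ε.symm ⟨i, hi⟩) else Pi.single i 1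
      have hdet : a.det = (Matrix.of fun p q => z q (e p)).det := by
        rw [det_eq_minor a T (fun i hi ↦ by simp [a, hi]) ε, ← Matrix.det_transpose]
        congr 1
        ext p q
        have hsym : ε.symm ⟨(ε q : Fin n), (ε q).2⟩ = q := ε.symm_apply_apply q
        simp only [Matrix.transpose_apply, Matrix.of_apply, a, dif_pos (ε q).2, hsym]
        rfl
      refine Ideal.subset_span ⟨a, T, ?_, fun i hi ↦ ?_, fun i hi ↦ ⟨i, by simp [a, hi]⟩, hdet.symm⟩
      · simp [T, Finset.card_image_of_injective _ he]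
      · have : a i = z (ε.symm ⟨i, hi⟩) := by simp [a, hi]
        rw [this]
        exact mem_rel.2 (hz _)
    · rw [Function.not_injective_iff] at he
      obtain ⟨p, q, hpq, hne⟩ := he
      rw [SetLike.mem_coe, Matrix.det_zero_of_row_eq hne (by funext b; simp [hpq])]
      exact zero_mem _

/-- Fitting ideals of a direct sum. -/
theorem ideal_prod {M' : Type v} [AddCommGroup M'] [Module R M'] [Module.Finite R M]
    [Module.Finite R M'] (l : ℕ) :
    Fitt.ideal R (M × M') l =
      ∑ k ∈ Finset.range (l + 1), Fitt.ideal R M k * Fitt.ideal R M' (l - k) := by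
  classical
  obtain ⟨n, x, hx⟩ := Module.Finite.exists_fin (R := R) (M := M)
  obtain ⟨m, y, hy⟩ := Module.Finite.exists_fin (R := R) (M := M')
  let w : Fin (n + m) → M × M' := Fin.append (fun i ↦ (x i, 0)) (fun j ↦ (0, y j))
  have hwL : ∀ i, w (Fin.castAdd m i) = (x i, 0) := fun i ↦ by simp [w]
  have hwR : ∀ j, w (Fin.natAdd n j) = (0, y j) := fun j ↦ by simp [w]
  have hw : Submodule.span R (Set.range w) = ⊤ := by
    refine eq_top_iff.2 fun p _ ↦ ?_
    obtain ⟨c, hc⟩ := (Submodule.mem_span_range_iff_exists_fun R).1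
      (hx ▸ Submodule.mem_top : p.1 ∈ _)
    obtain ⟨c', hc'⟩ := (Submodule.mem_span_range_iff_exists_fun R).1
      (hy ▸ Submodule.mem_top : p.2 ∈ _)
    refine (Submodule.mem_span_range_iff_exists_fun R).2 ⟨Fin.append c c', ?_⟩
    rw [Fin.sum_univ_add]
    ext <;> simp [hwL, hwR, Prod.fst_sum, Prod.snd_sum, hc, hc']
  let GrL : Set (Fin (n + m) → R) := (fun v ↦ Fin.append v 0) '' (Rel (R := R) x : Set (Fin n → R))
  let GrR : Set (Fin (n + m) → R) :=
    (fun v ↦ Fin.append 0 v) '' (Rel (R := R) y : Set (Fin m → R))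
  have hrel : ∀ v : Fin (n + m) → R, v ∈ Rel (R := R) w ↔
      (fun i ↦ v (Fin.castAdd m i)) ∈ Rel (R := R) x ∧
        (fun j ↦ v (Fin.natAdd n j)) ∈ Rel (R := R) y := fun v ↦ by
    simp [mem_rel, Fin.sum_univ_add, hwL, hwR, Prod.ext_iff, Prod.fst_sum, Prod.snd_sum]
  have hG : Submodule.span R (GrL ∪ GrR) = Rel (R := R) w := by
    refine le_antisymm (Submodule.span_le.2 ?_) fun v hv ↦ ?_
    · rintro _ (⟨v, hv, rfl⟩ | ⟨v, hv, rfl⟩) <;> rw [SetLike.mem_coe, hrel] <;>
        simp only [Fin.append_left, Fin.append_right, Pi.zero_apply]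
      · exact ⟨hv, zero_mem _⟩
      · exact ⟨zero_mem _, hv⟩
    · have : v = Fin.append (fun i ↦ v (Fin.castAdd m i)) 0 +
          Fin.append 0 (fun j ↦ v (Fin.natAdd n j)) := by
        funext i
        refine Fin.addCases (fun a ↦ ?_) (fun a ↦ ?_) i <;> simp
      rw [this]
      exact add_mem (Submodule.subset_span (Or.inl ⟨_, ((hrel v).1 hv).1, rfl⟩))
        (Submodule.subset_span (Or.inr ⟨_, ((hrel v).1 hv).2, rfl⟩))
  rw [ideal_eq_D w hw, D_eq_span_gen w _ hG l]
  refine le_antisymm (Ideal.span_le.2 ?_) (Finset.sum_induction _ (· ≤ Ideal.span _)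
    (fun _ _ h h' ↦ sup_le h h') bot_le fun k hk ↦ ?_)
  · rintro _ ⟨a, T, hT, ha, hu, rfl⟩
    rw [SetLike.mem_coe]
    -- every row is supported on one of the two sides
    have hside : ∀ i, (∀ j : Fin m, a i (Fin.natAdd n j) = 0) ∨
        (∀ j : Fin n, a i (Fin.castAdd m j) = 0) := fun i ↦ by
      by_cases hi : i ∈ T
      · rcases ha i hi with ⟨v, -, hv⟩ | ⟨v, -, hv⟩
        · exact Or.inl fun j ↦ by simp [← hv]
        · exact Or.inr fun j ↦ by simp [← hv]
      · obtain ⟨c, hc⟩ := hu i hi
        rw [hc]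
        refine Fin.addCases (fun l ↦ ?_) (fun l ↦ ?_) c
        · exact Or.inl fun j ↦ Pi.single_eq_of_ne (fun h ↦ by simp [Fin.ext_iff] at h; omega) _
        · exact Or.inr fun j ↦ Pi.single_eq_of_ne (fun h ↦ by simp [Fin.ext_iff] at h; omega) _
    let S : Finset (Fin (n + m)) := Finset.univ.filter fun i ↦ ∀ j : Fin m, a i (Fin.natAdd n j) = 0
    have hSc : ∀ i ∉ S, ∀ j : Fin n, a i (Fin.castAdd m j) = 0 := fun i hi ↦
      (hside i).resolve_left fun h ↦ hi (by simpa [S] using h)
    by_cases hcard : S.card = n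
    · have hcard' : Sᶜ.card = m := by rw [Finset.card_compl, Fintype.card_fin]; omega
      let e : Fin (n + m) ≃ Fin (n + m) :=
        finSumFinEquiv.symm.trans
          ((Equiv.sumCongr (S.orderIsoOfFin hcard).toEquiv
            ((Sᶜ).orderIsoOfFin hcard').toEquiv).trans
            ((Equiv.sumCongr (Equiv.refl _) (Equiv.subtypeEquivRight (by simp))).trans
              (Equiv.sumCompl (fun i ↦ i ∈ S))))
      have hel : ∀ p, e (Fin.castAdd m p) = (S.orderIsoOfFin hcard p : Fin (n + m)) := fun p ↦ by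
        simp [e]
      have her : ∀ p, e (Fin.natAdd n p) = ((Sᶜ).orderIsoOfFin hcard' p : Fin (n + m)) := fun p ↦ by
        simp [e]
      let A : Matrix (Fin n) (Fin n) R := fun p q ↦ a (e (Fin.castAdd m p)) (Fin.castAdd m q)
      let B : Matrix (Fin m) (Fin m) R := fun p q ↦ a (e (Fin.natAdd n p)) (Fin.natAdd n q)
      have hblock : ((a.submatrix e id).submatrix finSumFinEquiv finSumFinEquiv) =
          Matrix.fromBlocks A 0 0 B := by
        ext (p | p) (q | q)
        · rfl
        · simp only [Matrix.submatrix_apply, finSumFinEquiv_apply_left, finSumFinEquiv_apply_right,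
            id_eq, Matrix.fromBlocks_apply₁₂, Matrix.zero_apply, hel]
          exact (Finset.mem_filter.1 (S.orderIsoOfFin hcard p).2).2 q
        · simp only [Matrix.submatrix_apply, finSumFinEquiv_apply_left, finSumFinEquiv_apply_right,
            id_eq, Matrix.fromBlocks_apply₂₁, Matrix.zero_apply, her]
          exact hSc _ (Finset.mem_compl.1 ((Sᶜ).orderIsoOfFin hcard' p).2) q
        · rfl
      have hdet : ((Equiv.Perm.sign e : ℤ) : R) * a.det = A.det * B.det := by
        rw [← Matrix.det_permute, ← Matrix.det_submatrix_equiv_self finSumFinEquiv, hblock,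
          Matrix.det_fromBlocks_zero₁₂]
      let T₁ : Finset (Fin n) := Finset.univ.filter fun p ↦ e (Fin.castAdd m p) ∈ T
      let T₂ : Finset (Fin m) := Finset.univ.filter fun p ↦ e (Fin.natAdd n p) ∈ T
      have hTcard : T.card = T₁.card + T₂.card := by
        simp only [T₁, T₂, Finset.card_filter]
        rw [← Fin.sum_univ_add (fun i ↦ if e i ∈ T then 1 else 0),
          Equiv.sum_comp e (fun i ↦ if i ∈ T then 1 else 0), Finset.sum_boole]
        simp
      have hT₁ : T₁.card ≤ n := (Finset.card_le_univ _).trans (by simp)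
      have hT₂ : T₂.card ≤ m := (Finset.card_le_univ _).trans (by simp)
      have hA : ∀ p ∈ T₁, A p ∈ Rel (R := R) x := fun p hp ↦
        ((hrel _).1 (hG ▸ Submodule.subset_span (ha _ (Finset.mem_filter.1 hp).2))).1
      have hB : ∀ p ∈ T₂, B p ∈ Rel (R := R) y := fun p hp ↦
        ((hrel _).1 (hG ▸ Submodule.subset_span (ha _ (Finset.mem_filter.1 hp).2))).2
      -- split `l` between the two factors
      obtain ⟨k₀, hk₀, hk₁, hk₂⟩ : ∃ k, k ≤ l ∧ n - k ≤ T₁.card ∧ m - (l - k) ≤ T₂.card :=
        ⟨min l (n - T₁.card), min_le_left _ _, by omega, by omega⟩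
      have hmem : A.det * B.det ∈
          ∑ k ∈ Finset.range (l + 1), Fitt.ideal R M k * Fitt.ideal R M' (l - k) := by
        rw [Ideal.sum_eq_sup]
        refine (Finset.le_sup (f := fun k ↦ Fitt.ideal R M k * Fitt.ideal R M' (l - k))
          (Finset.mem_range.2 (Nat.lt_succ_of_le hk₀))) (Ideal.mul_mem_mul ?_ ?_)
        · rw [ideal_eq_D x hx]
          exact det_mem_D T₁ hk₁ hA
        · rw [ideal_eq_D y hy]
          exact det_mem_D T₂ hk₂ hB
      rw [← hdet] at hmem
      rcases Int.units_eq_one_or (Equiv.Perm.sign e) with h | h <;> simpa [h] using hmem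
    · have h0 : a.det = 0 := by
        rw [Matrix.det_apply']
        refine Finset.sum_eq_zero fun σ _ ↦ mul_eq_zero_of_right _ ?_
        by_contra hne
        have hne' : ∀ i, a (σ i) i ≠ 0 := fun i h ↦ hne (Finset.prod_eq_zero (Finset.mem_univ i) h)
        refine hcard ?_
        have : S = (Finset.univ.map (Fin.castAddEmb m)).map σ.toEmbedding := by
          ext i
          simp only [Finset.mem_map, Finset.mem_univ, true_and, S, Finset.mem_filter,
            exists_exists_eq_and]
          constructor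
          · intro hi
            obtain ⟨j, rfl⟩ := σ.surjective i
            revert hi
            refine Fin.addCases (fun p hp ↦ ⟨p, rfl⟩) (fun q hq ↦ absurd (hq q) (hne' _)) j
          · rintro ⟨p, rfl⟩
            refine ((hside _).resolve_right fun h ↦ hne' (Fin.castAdd m p) (h p))
        rw [this]; simp
      rw [h0]; exact zero_mem _
  · rw [ideal_eq_D x hx, ideal_eq_D y hy, D_eq_span_gen x _ (Submodule.span_eq _),
      D_eq_span_gen y _ (Submodule.span_eq _), Ideal.span_mul_span']
    refine Ideal.span_le.2 ?_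
    rintro _ ⟨_, ⟨A, T₁, hT₁, hA, -, rfl⟩, _, ⟨B, T₂, hT₂, hB, -, rfl⟩, rfl⟩
    rw [← D_eq_span_gen w _ hG l]
    have hdet : ((Matrix.fromBlocks A 0 0 B).submatrix finSumFinEquiv.symm
        finSumFinEquiv.symm).det = A.det * B.det := by
      rw [Matrix.det_submatrix_equiv_self, Matrix.det_fromBlocks_zero₁₂]
    rw [SetLike.mem_coe]
    change A.det * B.det ∈ _
    rw [← hdet]
    refine det_mem_D (T₁.map (Fin.castAddEmb m) ∪ T₂.map (Fin.natAddEmb n)) ?_ fun i hi ↦ ?_
    · rw [Finset.card_union_of_disjoint]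
      · have := Finset.mem_range.1 hk
        rw [Finset.card_map, Finset.card_map]
        omega
      · simp only [Finset.disjoint_left, Finset.mem_map, not_exists, not_and]
        rintro _ ⟨p, -, rfl⟩ q - h
        simp [Fin.ext_iff] at h
        omega
    · rw [hrel]
      rcases Finset.mem_union.1 hi with hi | hi <;> obtain ⟨p, hp, rfl⟩ := Finset.mem_map.1 hi
      · refine ⟨?_, ?_⟩
        · simpa using! hA p hp
        · convert zero_mem (Rel (R := R) y) using 1
          funext j; simp
      · refine ⟨?_, ?_⟩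
        · convert zero_mem (Rel (R := R) x) using 1
          funext j; simp
        · simpa using! hB p hp

end Groth.Agent.FittLib
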