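import Groth.Agent.FittLib.Basic
import Groth.Agent.FlatGenStable.Reduced

set_option autoImplicit false

/-! Fitting ideals: base change, annihilators, numbers of generators. -/

namespace Groth.Agent.FittLib

open TensorProduct

universe u v w

variable {R : Type u} [CommRing R] {M : Type v} [AddCommGroup M] [Module R M]

lemma span_one_tmul {n : ℕ} (x : Fin n → M) (hx : Submodule.span R (Set.range x) = ⊤)
    (S : Type*) [CommRing S] [Algebra R S] :
    Submodule.span S (Set.range fun i ↦ (1 : S) ⊗ₜ[R] x i) = ⊤ := by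
  refine eq_top_iff.2 fun y _ ↦ ?_
  induction y using TensorProduct.induction_on with
  | zero => exact zero_mem _
  | add a b ha hb => exact add_mem (ha trivial) (hb trivial)
  | tmul c m =>
    obtain ⟨v, hv⟩ := (Submodule.mem_span_range_iff_exists_fun R).1 (hx ▸ Submodule.mem_top : m ∈ _)
    rw [← hv, TensorProduct.tmul_sum]
    refine Submodule.sum_mem _ fun i _ ↦ ?_
    rw [TensorProduct.tmul_smul, ← algebraMap_smul S (v i),
      show c ⊗ₜ[R] x i = c • ((1 : S) ⊗ₜ[R] x i) by simp [TensorProduct.smul_tmul']]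
    exact Submodule.smul_mem _ _ (Submodule.smul_mem _ _ (Submodule.subset_span ⟨i, rfl⟩))

lemma rel_baseChange {n : ℕ} (x : Fin n → M) (hx : Submodule.span R (Set.range x) = ⊤)
    (S : Type*) [CommRing S] [Algebra R S] :
    Submodule.span S ((fun v j ↦ algebraMap R S (v j)) '' (Rel (R := R) x : Set (Fin n → R))) =
      Rel (R := S) (fun i ↦ (1 : S) ⊗ₜ[R] x i) := by
  classical
  set P := Submodule.span S ((fun v j ↦ algebraMap R S (v j)) '' (Rel (R := R) x : Set (Fin n → R)))
  refine le_antisymm (Submodule.span_le.2 ?_) fun w hw ↦ ?_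
  · rintro _ ⟨v, hv, rfl⟩
    refine mem_rel.2 ?_
    simp only [algebraMap_smul, ← TensorProduct.tmul_smul, ← TensorProduct.tmul_sum]
    rw [mem_rel.1 hv, TensorProduct.tmul_zero]
  · let φ := Fintype.linearCombination R x
    have hφ : Function.Surjective φ := by
      rw [← LinearMap.range_eq_top, Fintype.range_linearCombination, hx]
    let e := TensorProduct.piScalarRight R S S (Fin n)
    let κ := (LinearMap.ker φ).subtype.baseChange S
    let z := e.symm w
    have hz : φ.baseChange S z = 0 := by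
      have h1 : ∀ w' : Fin n → S, φ.baseChange S (e.symm w') =
          ∑ j, w' j • ((1 : S) ⊗ₜ[R] x j) := by
        intro w'
        have hw' : e.symm w' = ∑ j, w' j ⊗ₜ[R] (Pi.single j (1 : R) : Fin n → R) := by
          apply e.injective
          rw [LinearEquiv.apply_symm_apply, map_sum]
          funext l
          simp [e, Pi.single_apply]
        rw [hw', map_sum]
        refine Finset.sum_congr rfl fun j _ ↦ ?_
        simp [φ, TensorProduct.smul_tmul', Fintype.linearCombination_apply_single]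
      rw [h1]
      exact mem_rel.1 hw
    obtain ⟨y, hy⟩ := (lTensor_exact S (LinearMap.exact_subtype_ker_map φ) hφ z).1 hz
    have hy' : e (κ y) = w := (congrArg e hy).trans (e.apply_symm_apply w)
    have key : ∀ y, e (κ y) ∈ P := fun y ↦ by
      induction y using TensorProduct.induction_on with
      | zero => simp
      | add a b ha hb => rw [map_add, map_add]; exact add_mem ha hb
      | tmul c v =>
        have h2 : e (κ (c ⊗ₜ[R] v)) = c • (fun j ↦ algebraMap R S (v.1 j)) := by
          funext l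
          simp [e, κ, Algebra.smul_def, mul_comm]
        rw [h2]
        exact Submodule.smul_mem _ _ (Submodule.subset_span ⟨v.1, v.2, rfl⟩)
    exact hy' ▸ key y

theorem ideal_baseChange [Module.Finite R M] (S : Type w) [CommRing S] [Algebra R S] (k : ℕ) :
    Fitt.ideal S (S ⊗[R] M) k = (Fitt.ideal R M k).map (algebraMap R S) := by
  classical
  obtain ⟨n, x, hx⟩ := Module.Finite.exists_fin (R := R) (M := M)
  rw [ideal_eq_D x hx, ideal_eq_D _ (span_one_tmul x hx S),
    D_eq_span_gen _ _ (rel_baseChange x hx S) k, D_eq_span_gen x _ (Submodule.span_eq _) k,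
    Ideal.map_span]
  congr 1
  ext d
  constructor
  · rintro ⟨a, T, hT, ha, hu, rfl⟩
    have hrow : ∀ i, ∃ v : Fin n → R, (i ∈ T → v ∈ Rel (R := R) x) ∧
        (i ∉ T → ∃ j, v = Pi.single j 1) ∧ a i = fun j ↦ algebraMap R S (v j) := fun i ↦ by
      by_cases hi : i ∈ T
      · obtain ⟨v, hv, hva⟩ := ha i hi
        exact ⟨v, fun _ ↦ hv, fun h ↦ absurd hi h, hva.symm⟩
      · obtain ⟨j, hj⟩ := hu i hi
        refine ⟨Pi.single j 1, fun h ↦ absurd h hi, fun _ ↦ ⟨j, rfl⟩, ?_⟩
        rw [hj]; funext l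
        by_cases hl : l = j <;> simp [hl]
    choose v h1 h2 h3 using hrow
    refine ⟨(Matrix.of v).det, ⟨Matrix.of v, T, hT, h1, h2, rfl⟩, ?_⟩
    rw [RingHom.map_det]
    congr 1
    ext i j
    simp [h3 i]
  · rintro ⟨_, ⟨a, T, hT, ha, hu, rfl⟩, rfl⟩
    refine ⟨(algebraMap R S).mapMatrix a, T, hT, fun i hi ↦ ⟨a i, ha i hi, rfl⟩, fun i hi ↦ ?_,
      RingHom.map_det _ _⟩
    obtain ⟨j, hj⟩ := hu i hi
    refine ⟨j, funext fun l ↦ ?_⟩
    by_cases hl : l = j <;> simp [hj, hl]

lemma ideal_eq_top {n : ℕ} (x : Fin n → M) (hx : Submodule.span R (Set.range x) = ⊤) {k : ℕ}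
    (h : n ≤ k) : Fitt.ideal R M k = ⊤ := by
  rw [ideal_eq_D x hx, D_eq_top x h]

lemma exists_padded {S : Type*} [CommRing S] {N : Type*} [AddCommGroup N] [Module S N] {m k : ℕ}
    (g : Fin m → N) (hg : Submodule.span S (Set.range g) = ⊤) (h : m ≤ k) :
    ∃ g' : Fin k → N, Submodule.span S (Set.range g') = ⊤ := by
  refine ⟨fun i ↦ if hi : (i : ℕ) < m then g ⟨i, hi⟩ else 0, top_le_iff.1 (hg ▸ Submodule.span_mono ?_)⟩
  rintro _ ⟨i, rfl⟩
  exact ⟨Fin.castLE h i, by simp⟩

/-- Over a local ring, `Fit_k = ⊤` forces `k` generators. -/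
theorem exists_span_of_ideal_eq_top [IsLocalRing R] [Module.Finite R M] {k : ℕ}
    (h : Fitt.ideal R M k = ⊤) :
    ∃ g : Fin k → M, Submodule.span R (Set.range g) = ⊤ := by
  classical
  have hfg : (⊤ : Submodule R M).FG := Module.Finite.fg_top
  have hex : ∃ n, ∃ x : Fin n → M, Submodule.span R (Set.range x) = ⊤ :=
    Module.Finite.exists_fin (R := R) (M := M)
  obtain ⟨x, hx⟩ := Nat.find_spec hex
  by_cases hn : Nat.find hex ≤ k
  · exact exists_padded x hx hn
  exfalso
  have hrel : ∀ v ∈ Rel (R := R) x, ∀ j, v j ∈ IsLocalRing.maximalIdeal R := by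
    intro v hv j
    by_contra hj
    obtain ⟨u, hu⟩ := IsLocalRing.notMem_maximalIdeal.1 hj
    obtain ⟨n, hn'⟩ : ∃ n, Nat.find hex = n + 1 := Nat.exists_eq_succ_of_ne_zero (by omega)
    let y : Fin n → M := fun i ↦ x (Fin.cast hn'.symm ((Fin.cast hn' j).succAbove i))
    refine Nat.find_min hex (show n < Nat.find hex by omega) ⟨y, eq_top_iff.2 (hx ▸ ?_)⟩
    rw [Submodule.span_le]
    rintro _ ⟨i, rfl⟩
    have hmem : ∀ i, i ≠ j → x i ∈ Submodule.span R (Set.range y) := fun i hi ↦ by
      obtain ⟨l, hl⟩ := Fin.exists_succAbove_eq (x := Fin.cast hn' i) (y := Fin.cast hn' j)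
        (fun e ↦ hi (Fin.cast_injective _ e))
      exact Submodule.subset_span ⟨l, by simp [y, hl]⟩
    by_cases hi : i = j
    · subst hi
      have h0 := mem_rel.1 hv
      rw [← Finset.add_sum_erase _ _ (Finset.mem_univ i), add_eq_zero_iff_eq_neg] at h0
      have h1 : x i = (↑u⁻¹ : R) • (v i • x i) := by
        rw [← mul_smul, ← hu, Units.inv_mul, one_smul]
      rw [SetLike.mem_coe, h1, h0]
      exact Submodule.smul_mem _ _ (neg_mem (Submodule.sum_mem _ fun l hl ↦
        Submodule.smul_mem _ _ (hmem l (Finset.ne_of_mem_erase hl))))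
    · exact hmem i hi
  refine (IsLocalRing.maximalIdeal.isMaximal R).ne_top (top_le_iff.1 (h ▸ ?_))
  rw [ideal_eq_D x hx]
  refine Ideal.span_le.2 ?_
  rintro _ ⟨a, T, hT, ha, rfl⟩
  obtain ⟨i, hi⟩ : T.Nonempty := Finset.card_pos.1 (by omega)
  rw [SetLike.mem_coe, Matrix.det_apply']
  refine Submodule.sum_mem _ fun σ _ ↦ Ideal.mul_mem_left _ _ ?_
  rw [← Finset.mul_prod_erase _ _ (Finset.mem_univ (σ⁻¹ i))]
  refine Ideal.mul_mem_right _ _ ?_
  simpa [-IsLocalRing.mem_maximalIdeal] using hrel _ (ha i hi) (σ⁻¹ i)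

/-- `k` generators of a localization at a submonoid prime to `p` force `Fit_k ⊄ p`. -/
theorem not_le_of_span_localized [Module.Finite R M] {k : ℕ} (p : Ideal R) [p.IsPrime]
    (S : Submonoid R) (hd : Disjoint (S : Set R) (p : Set R)) (g : Fin k → LocalizedModule S M)
    (hg : Submodule.span (Localization S) (Set.range g) = ⊤) : ¬ Fitt.ideal R M k ≤ p := by
  intro hle
  have h1 := ideal_eq_top g hg le_rfl
  rw [ideal_eq_of_equiv (LocalizedModule.equivTensorProduct S M), ideal_baseChange] at h1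
  exact (IsLocalization.isPrime_of_isPrime_disjoint S (Localization S) p
    inferInstance hd).ne_top (top_le_iff.1 (h1 ▸ Ideal.map_mono hle))

theorem not_le_iff_finrank [Module.Finite R M] (k : ℕ) (p : Ideal R) [p.IsPrime] :
    ¬ Fitt.ideal R M k ≤ p ↔
      Module.finrank p.ResidueField (p.ResidueField ⊗[R] M) ≤ k := by
  have h0 : Fitt.ideal R M k ≤ p ↔ Fitt.ideal p.ResidueField (p.ResidueField ⊗[R] M) k ≠ ⊤ := by
    rw [ideal_baseChange]
    refine ⟨fun hle h ↦ ?_, fun h ↦ ?_⟩
    · have : (Fitt.ideal R M k).map (algebraMap R p.ResidueField) ≤ ⊥ := by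
        rw [Ideal.map_le_iff_le_comap]
        exact fun x hx ↦ Ideal.algebraMap_residueField_eq_zero.2 (hle hx)
      rw [h, le_bot_iff] at this
      exact top_ne_bot this
    · by_contra hle
      obtain ⟨x, hx, hxp⟩ := SetLike.not_le_iff_exists.1 hle
      refine h (Ideal.eq_top_of_isUnit_mem _ (Ideal.mem_map_of_mem _ hx) ?_)
      rw [isUnit_iff_ne_zero, ne_eq, Ideal.algebraMap_residueField_eq_zero]
      exact hxp
  rw [h0, not_not]
  refine ⟨fun h ↦ ?_, fun h ↦ ideal_eq_top (Module.finBasis p.ResidueField _)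
    (Module.Basis.span_eq _) h⟩
  obtain ⟨g, hg⟩ := exists_span_of_ideal_eq_top h
  simpa using finrank_le_of_span_eq_top hg

theorem exists_span_localized_of_not_le [Module.Finite R M] {k : ℕ} (p : Ideal R) [p.IsPrime]
    (h : ¬ Fitt.ideal R M k ≤ p) :
    ∃ f : R, f ∉ p ∧ ∀ S : Submonoid R, f ∈ S → ∃ g : Fin k → LocalizedModule S M,
        Submodule.span (Localization S) (Set.range g) = ⊤ := by
  classical
  rw [not_le_iff_finrank] at h
  obtain ⟨f, ψ, hf, hψ⟩ := FlatGenStable.exists_span_away_fibre (M := M) ⟨p, inferInstance⟩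
  refine ⟨f, hf, fun S hfS ↦ exists_padded (fun i ↦ LocalizedModule.mk (ψ (Pi.single i 1)) 1) ?_ h⟩
  refine eq_top_iff.2 fun y _ ↦ ?_
  obtain ⟨w, rfl⟩ := FlatGenStable.map_surjective_of_smul S ψ
    ⟨f, hfS⟩ hψ y
  induction w using LocalizedModule.induction_on with
  | h v s =>
    rw [LocalizedModule.map_mk,
      show LocalizedModule.mk (ψ v) s = Localization.mk 1 s •
        LocalizedModule.mkLinearMap S M (ψ v) by
          rw [LocalizedModule.mkLinearMap_apply, LocalizedModule.mk_smul_mk, one_smul, mul_one],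
      pi_eq_sum_univ' v, map_sum, map_sum]
    refine Submodule.smul_mem _ _ (Submodule.sum_mem _ fun i _ ↦ ?_)
    rw [map_smul, map_smul, ← algebraMap_smul (Localization S) (v i)]
    exact Submodule.smul_mem _ _ (Submodule.subset_span ⟨i, rfl⟩)

/-- Adjugate identity for matrices of relations. -/
lemma det_smul {n : ℕ} (x : Fin n → M) (a : Matrix (Fin n) (Fin n) R) (j : Fin n) :
    a.det • x j = ∑ i, a.adjugate j i • ∑ l, a i l • x l := by
  calc a.det • x j = ∑ l, (a.adjugate * a) j l • x l := by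
        rw [Matrix.adjugate_mul]; simp [Matrix.one_apply]
    _ = _ := by
        simp_rw [Matrix.mul_apply, Finset.sum_smul, Finset.smul_sum, mul_smul]
        exact Finset.sum_comm

theorem ideal_zero_le_annihilator [Module.Finite R M] :
    Fitt.ideal R M 0 ≤ Module.annihilator R M := by
  obtain ⟨n, x, hx⟩ := Module.Finite.exists_fin (R := R) (M := M)
  rw [ideal_eq_D x hx]
  refine Ideal.span_le.2 ?_
  rintro _ ⟨a, T, hT, ha, rfl⟩
  have hT' : T = Finset.univ := Finset.eq_univ_of_card _ (le_antisymm (Finset.card_le_univ T)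
    (by simpa using hT))
  rw [SetLike.mem_coe, Module.mem_annihilator]
  intro m
  obtain ⟨c, rfl⟩ := (Submodule.mem_span_range_iff_exists_fun R).1 (hx ▸ Submodule.mem_top : m ∈ _)
  rw [Finset.smul_sum]
  refine Finset.sum_eq_zero fun j _ ↦ ?_
  rw [smul_comm, det_smul, Finset.sum_eq_zero, smul_zero]
  intro i _
  rw [mem_rel.1 (ha i (hT' ▸ Finset.mem_univ i)), smul_zero]

end Groth.Agent.FittLib
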