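import Mathlib
import Groth.Prelude.Def_Fitting

set_option autoImplicit false

/-! Fitting ideals: independence of generators and the basic description by relations. -/

namespace Groth.Agent.FittLib

universe u v

variable {R : Type u} [CommRing R] {M : Type v} [AddCommGroup M] [Module R M]

section Rows

variable {ι : Type*} [Fintype ι] [DecidableEq ι]

/-- Multilinearity of the determinant in the rows. -/
lemma det_mem_span_rows (G : ι → Set (ι → R)) (a : Matrix ι ι R)
    (h : ∀ i, a i ∈ Submodule.span R (G i)) :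
    a.det ∈ Ideal.span {d | ∃ b : Matrix ι ι R, (∀ i, b i ∈ G i) ∧ d = b.det} := by
  suffices ∀ (s : Finset ι) (a : Matrix ι ι R), (∀ i ∈ s, a i ∈ Submodule.span R (G i)) →
      (∀ i ∉ s, a i ∈ G i) →
      a.det ∈ Ideal.span {d | ∃ b : Matrix ι ι R, (∀ i, b i ∈ G i) ∧ d = b.det} from
    this Finset.univ a (fun i _ ↦ h i) fun i hi ↦ absurd (Finset.mem_univ i) hi
  intro s
  induction s using Finset.induction with
  | empty => exact fun a _ ha ↦ Ideal.subset_span ⟨a, fun i ↦ ha i (Finset.notMem_empty i), rfl⟩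
  | insert i s hi ih =>
    intro a h1 h2
    suffices ∀ v ∈ Submodule.span R (G i), (a.updateRow i v).det ∈
        Ideal.span {d | ∃ b : Matrix ι ι R, (∀ i, b i ∈ G i) ∧ d = b.det} by
      have h3 := this (a i) (h1 i (Finset.mem_insert_self i s))
      rwa [Matrix.updateRow_eq_self] at h3
    intro v hv
    induction hv using Submodule.span_induction with
    | mem w hw =>
      refine ih _ (fun j hj ↦ ?_) fun j hj ↦ ?_
      · rw [Matrix.updateRow_ne (ne_of_mem_of_not_mem hj hi)]
        exact h1 j (Finset.mem_insert_of_mem hj)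
      · rcases eq_or_ne j i with rfl | hji
        · rwa [Matrix.updateRow_self]
        · rw [Matrix.updateRow_ne hji]
          exact h2 j (by simp [hji, hj])
    | zero =>
      rw [Matrix.det_eq_zero_of_row_eq_zero i fun j ↦ by simp]
      exact zero_mem _
    | add x y _ _ hx hy => rw [Matrix.det_updateRow_add]; exact add_mem hx hy
    | smul c x _ hx => rw [Matrix.det_updateRow_smul]; exact Ideal.mul_mem_left _ _ hx

end Rows

section Rel

variable {ι : Type*} [Fintype ι]

/-- The relation module of a tuple. -/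
noncomputable def Rel (x : ι → M) : Submodule R (ι → R) :=
  LinearMap.ker (Fintype.linearCombination R x)

lemma mem_rel {x : ι → M} {v : ι → R} : v ∈ Rel x ↔ ∑ j, v j • x j = 0 := Iff.rfl

end Rel

variable (R) in
/-- The determinants defining the `k`-th Fitting ideal from the tuple `x`. -/
def dets {n : ℕ} (x : Fin n → M) (k : ℕ) : Set R :=
  {d | ∃ (a : Matrix (Fin n) (Fin n) R) (T : Finset (Fin n)),
    n - k ≤ T.card ∧ (∀ i ∈ T, a i ∈ Rel (R := R) x) ∧ d = a.det}

variable (R) in
/-- The `k`-th Fitting ideal computed from the tuple `x`. -/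
def D {n : ℕ} (x : Fin n → M) (k : ℕ) : Ideal R := Ideal.span (dets R x k)

lemma det_mem_D {n k : ℕ} {x : Fin n → M} {a : Matrix (Fin n) (Fin n) R} (T : Finset (Fin n))
    (hT : n - k ≤ T.card) (h : ∀ i ∈ T, a i ∈ Rel (R := R) x) : a.det ∈ D R x k :=
  Ideal.subset_span ⟨a, T, hT, h, rfl⟩

lemma D_le_of_matrix {n k : ℕ} {x y : Fin n → M} (G : Matrix (Fin n) (Fin n) R) (hG : IsUnit G.det)
    (hy : ∀ i, y i = ∑ j, G i j • x j) : D R x k ≤ D R y k := by
  refine Ideal.span_le.2 ?_
  rintro _ ⟨a, T, hT, ha, rfl⟩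
  have hmem : (a * G⁻¹).det ∈ D R y k := by
    refine det_mem_D T hT fun i hi ↦ ?_
    rw [mem_rel]
    calc ∑ j, (a * G⁻¹) i j • y j = ∑ l, ((a * G⁻¹) * G) i l • x l := by
          simp_rw [hy, Finset.smul_sum, smul_smul]
          rw [Finset.sum_comm]
          simp_rw [← Finset.sum_smul]
          rfl
      _ = 0 := by
          rw [Matrix.mul_assoc, Matrix.nonsing_inv_mul _ hG, Matrix.mul_one]
          exact mem_rel.1 (ha i hi)
  rw [Matrix.det_mul] at hmem
  exact (Ideal.mul_unit_mem_iff_mem _ (Matrix.isUnit_nonsing_inv_det G hG)).1 hmem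

lemma D_eq_of_matrix {n k : ℕ} {x y : Fin n → M} (G : Matrix (Fin n) (Fin n) R) (hG : IsUnit G.det)
    (hy : ∀ i, y i = ∑ j, G i j • x j) : D R x k = D R y k := by
  refine le_antisymm (D_le_of_matrix G hG hy)
    (D_le_of_matrix G⁻¹ (Matrix.isUnit_nonsing_inv_det G hG) fun i ↦ ?_)
  simp_rw [hy, Finset.smul_sum, smul_smul]
  rw [Finset.sum_comm]
  simp_rw [← Finset.sum_smul]
  calc x i = ∑ l, (G⁻¹ * G) i l • x l := by
        rw [Matrix.nonsing_inv_mul _ hG]; simp [Matrix.one_apply]
    _ = _ := rfl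

lemma D_comp_equiv_le {n n' k : ℕ} (x : Fin n → M) (e : Fin n' ≃ Fin n) :
    D R x k ≤ D R (x ∘ e) k := by
  classical
  have hn : n' = n := by simpa using Fintype.card_congr e
  refine Ideal.span_le.2 ?_
  rintro _ ⟨a, T, hT, ha, rfl⟩
  rw [← Matrix.det_submatrix_equiv_self e a]
  refine det_mem_D (T.map e.symm.toEmbedding) (by rw [Finset.card_map]; omega) fun i hi ↦ ?_
  obtain ⟨j, hj, rfl⟩ := Finset.mem_map.1 hi
  rw [mem_rel]
  refine (Equiv.sum_comp e (fun l ↦ a (e (e.symm j)) l • x l)).trans ?_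
  simpa using mem_rel.1 (ha j hj)

lemma D_comp_equiv {n n' k : ℕ} (x : Fin n → M) (e : Fin n' ≃ Fin n) :
    D R (x ∘ e) k = D R x k := by
  refine le_antisymm ?_ (D_comp_equiv_le x e)
  have := D_comp_equiv_le (R := R) (k := k) (x ∘ e) e.symm
  simpa [Function.comp_assoc] using this

lemma D_snoc_zero {n : ℕ} (x : Fin n → M) (k : ℕ) :
    D R (Fin.snoc x (0 : M)) k = D R x k := by
  classical
  have hrel : ∀ v : Fin (n + 1) → R,
      v ∈ Rel (R := R) (Fin.snoc x (0 : M)) ↔ v ∘ Fin.castSucc ∈ Rel (R := R) x := fun v ↦ by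
    simp [mem_rel, Fin.sum_univ_castSucc]
  refine le_antisymm (Ideal.span_le.2 ?_) (Ideal.span_le.2 ?_)
  · rintro _ ⟨a, T, hT, ha, rfl⟩
    rw [SetLike.mem_coe, Matrix.det_succ_column a (Fin.last n)]
    refine Submodule.sum_mem _ fun i _ ↦ Ideal.mul_mem_left _ _ ?_
    rw [Fin.succAbove_last]
    refine det_mem_D (Finset.univ.filter fun j ↦ i.succAbove j ∈ T) ?_ fun j hj ↦ ?_
    · have h1 : T.erase i ⊆ (Finset.univ.filter fun j ↦ i.succAbove j ∈ T).map
          i.succAboveEmb := by
        intro l hl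
        obtain ⟨hli, hlT⟩ := Finset.mem_erase.1 hl
        obtain ⟨j, rfl⟩ := Fin.exists_succAbove_eq hli
        exact Finset.mem_map.2 ⟨j, Finset.mem_filter.2 ⟨Finset.mem_univ _, hlT⟩, rfl⟩
      have h2 := Finset.card_le_card h1
      rw [Finset.card_map] at h2
      have h3 := Finset.pred_card_le_card_erase (s := T) (a := i)
      omega
    · exact (hrel _).1 (ha _ (Finset.mem_filter.1 hj).2)
  · rintro _ ⟨a, T, hT, ha, rfl⟩
    let a' : Matrix (Fin (n + 1)) (Fin (n + 1)) R :=
      Fin.snoc (fun i ↦ Fin.snoc (a i) 0) (Pi.single (Fin.last n) 1)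
    have hdet : a'.det = a.det := by
      rw [Matrix.det_succ_column a' (Fin.last n), Finset.sum_eq_single (Fin.last n)]
      · have h0 : a'.submatrix (Fin.last n).succAbove (Fin.last n).succAbove = a := by
          ext i j
          rw [Fin.succAbove_last, Matrix.submatrix_apply]
          simp [a']
        rw [h0]
        simp [a']
      · intro i _ hi
        obtain ⟨j, rfl⟩ := Fin.exists_castSucc_eq.2 hi
        simp [a']
      · simp
    rw [← hdet]
    refine det_mem_D (insert (Fin.last n) (T.map Fin.castSuccEmb)) ?_ fun i hi ↦ ?_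
    · rw [Finset.card_insert_of_notMem (by simp), Finset.card_map]
      omega
    · rw [hrel]
      rcases Finset.mem_insert.1 hi with rfl | hi
      · have : (a' (Fin.last n)) ∘ Fin.castSucc = 0 := by
          funext j; simp [a']
        rw [this]; exact zero_mem _
      · obtain ⟨j, hj, rfl⟩ := Finset.mem_map.1 hi
        have : (a' (Fin.castSuccEmb j)) ∘ Fin.castSucc = a j := by
          funext l; simp [a']
        rw [this]; exact ha j hj

lemma D_append_zero {n : ℕ} (x : Fin n → M) (k m : ℕ) :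
    D R (Fin.append x (0 : Fin m → M)) k = D R x k := by
  induction m with
  | zero => simp [D_comp_equiv x (Equiv.refl _), show (0 : Fin 0 → M) = Fin.elim0 from funext fun i ↦ i.elim0]
  | succ m ih =>
    rw [← ih, ← D_snoc_zero (Fin.append x (0 : Fin m → M)) k]
    congr 1
    funext i
    refine Fin.addCases (fun j ↦ ?_) (fun j ↦ ?_) i
    · rw [Fin.append_left, show Fin.castAdd (m + 1) j = Fin.castSucc (Fin.castAdd m j) from rfl,
        Fin.snoc_castSucc, Fin.append_left]
    · refine Fin.lastCases ?_ (fun l ↦ ?_) j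
      · rw [Fin.append_right, show Fin.natAdd n (Fin.last m) = Fin.last (n + m) from rfl,
          Fin.snoc_last]
        rfl
      · rw [Fin.append_right, show Fin.natAdd n l.castSucc = Fin.castSucc (Fin.natAdd n l) from rfl,
          Fin.snoc_castSucc, Fin.append_right]
        rfl

lemma D_append {n m : ℕ} (x : Fin n → M) (hx : Submodule.span R (Set.range x) = ⊤) (y : Fin m → M)
    (k : ℕ) : D R (Fin.append x y) k = D R x k := by
  classical
  have : ∀ j, ∃ c : Fin n → R, ∑ i, c i • x i = y j := fun j ↦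
    Submodule.mem_span_range_iff_exists_fun R |>.1 (hx ▸ Submodule.mem_top)
  choose A hA using this
  rw [← D_append_zero x k m]
  symm
  refine D_eq_of_matrix ((Matrix.fromBlocks (1 : Matrix (Fin n) (Fin n) R) 0 (Matrix.of A) 1).submatrix
    finSumFinEquiv.symm finSumFinEquiv.symm) ?_ fun i ↦ ?_
  · rw [Matrix.det_submatrix_equiv_self, Matrix.det_fromBlocks_zero₁₂]
    simp
  · rw [Fin.sum_univ_add]
    refine Fin.addCases (fun l ↦ ?_) (fun l ↦ ?_) i
    · simp [Matrix.one_apply]
    · simp [← hA]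

lemma D_eq_of_span {n m : ℕ} (x : Fin n → M) (y : Fin m → M)
    (hx : Submodule.span R (Set.range x) = ⊤) (hy : Submodule.span R (Set.range y) = ⊤) (k : ℕ) :
    D R x k = D R y k := by
  rw [← D_append x hx y k, ← D_append y hy x k]
  let e : Fin (n + m) ≃ Fin (m + n) :=
    (finSumFinEquiv.symm.trans (Equiv.sumComm _ _)).trans finSumFinEquiv
  rw [← D_comp_equiv (Fin.append y x) e]
  congr 1
  funext i
  refine Fin.addCases (fun l ↦ ?_) (fun l ↦ ?_) i <;> simp [e]

/-- The Fitting ideal is computed by any generating tuple. -/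
theorem ideal_eq_D {n : ℕ} (x : Fin n → M) (hx : Submodule.span R (Set.range x) = ⊤) (k : ℕ) :
    Fitt.ideal R M k = D R x k := by
  classical
  refine le_antisymm (Ideal.span_le.2 ?_) (Ideal.span_le.2 ?_)
  · rintro _ ⟨m, y, a, hy, ha, rfl⟩
    rw [SetLike.mem_coe, D_eq_of_span x y hx hy]
    refine det_mem_D (Finset.univ.map (Fin.castLEEmb (Nat.sub_le m k))) (by simp) fun i hi ↦ ?_
    obtain ⟨j, -, rfl⟩ := Finset.mem_map.1 hi
    exact mem_rel.2 (ha _ (by simp))
  · rintro _ ⟨a, T, hT, ha, rfl⟩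
    obtain ⟨T', hT', hc⟩ := Finset.exists_subset_card_eq hT
    have e : {i : Fin n // (i : ℕ) < n - k} ≃ {i : Fin n // i ∈ T'} :=
      Fintype.equivOfCardEq (by
        rw [Fintype.card_coe, hc, Fintype.card_congr (Fin.castLEquiv (Nat.sub_le n k)).symm]
        simp)
    let σ := e.extendSubtype
    have hσ : (Matrix.det (a.submatrix σ id)) ∈ Fitt.ideal R M k :=
      Ideal.subset_span ⟨n, x, a.submatrix σ id, hx,
        fun i hi ↦ mem_rel.1 (ha _ (hT' (e.extendSubtype_mem i hi))), rfl⟩
    rw [Matrix.det_permute] at hσ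
    rcases Int.units_eq_one_or (Equiv.Perm.sign σ) with h | h <;> simpa [h] using hσ

/-- Fitting ideals from a spanning set of relations: the remaining rows may be unit vectors. -/
theorem D_eq_span_gen {n : ℕ} (x : Fin n → M) (G : Set (Fin n → R))
    (hG : Submodule.span R G = Rel (R := R) x) (k : ℕ) :
    D R x k = Ideal.span {d | ∃ (a : Matrix (Fin n) (Fin n) R) (T : Finset (Fin n)),
      T.card = n - k ∧ (∀ i ∈ T, a i ∈ G) ∧ (∀ i ∉ T, ∃ j, a i = Pi.single j 1) ∧ d = a.det} := by
  classical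
  refine le_antisymm (Ideal.span_le.2 ?_) (Ideal.span_le.2 ?_)
  · rintro _ ⟨a, T, hT, ha, rfl⟩
    obtain ⟨T', hT', hc⟩ := Finset.exists_subset_card_eq hT
    have := det_mem_span_rows
      (fun i ↦ if i ∈ T' then G else Set.range fun j ↦ (Pi.single j (1 : R) : Fin n → R)) a
      fun i ↦ by
        split_ifs with hi
        · rw [hG]; exact ha i (hT' hi)
        · rw [show (fun j ↦ (Pi.single j (1 : R) : Fin n → R)) = ⇑(Pi.basisFun R (Fin n)) by
            funext j; simp, Module.Basis.span_eq]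
          exact Submodule.mem_top
    refine Ideal.span_mono ?_ this
    rintro _ ⟨b, hb, rfl⟩
    refine ⟨b, T', hc, fun i hi ↦ ?_, fun i hi ↦ ?_, rfl⟩
    · simpa [hi] using hb i
    · have := hb i
      simp only [hi, if_false] at this
      obtain ⟨j, hj⟩ := this
      exact ⟨j, hj.symm⟩
  · rintro _ ⟨a, T, hT, ha, -, rfl⟩
    exact det_mem_D T hT.ge fun i hi ↦ hG ▸ Submodule.subset_span (ha i hi)

lemma D_mono_rel {N : Type*} [AddCommGroup N] [Module R N] {n k : ℕ} (x : Fin n → M)
    (y : Fin n → N) (h : Rel (R := R) x ≤ Rel (R := R) y) : D R x k ≤ D R y k := by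
  refine Ideal.span_le.2 ?_
  rintro _ ⟨a, T, hT, ha, rfl⟩
  exact det_mem_D T hT fun i hi ↦ h (ha i hi)

lemma D_eq_top {n k : ℕ} (x : Fin n → M) (h : n ≤ k) : D R x k = ⊤ := by
  rw [Ideal.eq_top_iff_one, ← Matrix.det_one (n := Fin n)]
  exact det_mem_D ∅ (by simp; omega) (by simp)

lemma ideal_mono_of_surjective [Module.Finite R M] {N : Type*} [AddCommGroup N] [Module R N]
    (f : M →ₗ[R] N) (hf : Function.Surjective f) (k : ℕ) :
    Fitt.ideal R M k ≤ Fitt.ideal R N k := by
  obtain ⟨n, x, hx⟩ := Module.Finite.exists_fin (R := R) (M := M)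
  have hy : Submodule.span R (Set.range (f ∘ x)) = ⊤ := by
    rw [Set.range_comp, Submodule.span_image, hx, Submodule.map_top, LinearMap.range_eq_top.2 hf]
  rw [ideal_eq_D x hx, ideal_eq_D (f ∘ x) hy]
  refine D_mono_rel _ _ fun v hv ↦ mem_rel.2 ?_
  simp only [Function.comp_apply, ← map_smul, ← map_sum]
  rw [mem_rel.1 hv, map_zero]

lemma ideal_eq_of_equiv [Module.Finite R M] {N : Type*} [AddCommGroup N] [Module R N]
    (e : M ≃ₗ[R] N) (k : ℕ) : Fitt.ideal R M k = Fitt.ideal R N k :=
  have : Module.Finite R N := Module.Finite.equiv e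
  le_antisymm (ideal_mono_of_surjective e.toLinearMap e.surjective k)
    (ideal_mono_of_surjective e.symm.toLinearMap e.symm.surjective k)

end Groth.Agent.FittLib
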