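import Groth.Agent.FittLib.BaseChange
import Groth.Agent.CokerProj.Loci

set_option autoImplicit false

/-! Finitely presented modules with `Fit_k = (f)` and `Fit_{k-1} = 0`. -/

namespace Groth.Agent.FittLib

universe u v

variable {R : Type u} [CommRing R] {M : Type v} [AddCommGroup M] [Module R M]

/-- A finite module which is free near every prime is finitely presented and projective. -/
lemma projective_of_local_free [Module.Finite R M]
    (h : ∀ p : PrimeSpectrum R, ∃ (g : R) (r : ℕ) (ψ : (Fin r → R) →ₗ[R] M), g ∉ p.asIdeal ∧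
      Function.Bijective (LocalizedModule.map (Submonoid.powers g) ψ)) :
    Module.Projective R M := by
  choose g r ψ hg hψ using h
  have : Module.FinitePresentation R M := by
    refine Module.FinitePresentation.of_localizationSpan (s := Set.range g) ?_ ?_
    · by_contra hne
      obtain ⟨m, hm, hle⟩ := Ideal.exists_le_maximal _ hne
      exact hg ⟨m, hm.isPrime⟩ (hle (Ideal.subset_span ⟨_, rfl⟩))
    · rintro ⟨_, p, rfl⟩
      exact Module.FinitePresentation.of_equiv (LinearEquiv.ofBijective _ (hψ p))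
  rw [← Module.freeLocus_eq_univ_iff, Set.eq_univ_iff_forall]
  intro p
  have : Module.Projective (Localization.Away (g p)) (LocalizedModule.Away (g p) M) := by
    have : Module.Projective (Localization.Away (g p))
        (LocalizedModule.Away (g p) (Fin (r p) → R)) :=
      Module.projective_of_isLocalizedModule (Submonoid.powers (g p))
        (LocalizedModule.mkLinearMap (Submonoid.powers (g p)) _)
    exact Module.Projective.of_equiv (LinearEquiv.ofBijective _ (hψ p))
  exact Module.basicOpen_subset_freeLocus_iff.2 this (hg p)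

lemma map_powers_bijective {N : Type*} [AddCommGroup N] [Module R N] (ψ : N →ₗ[R] M) (t : R)
    (hs : ∀ y : M, ∃ v, ψ v = t • y) (hi : ∀ v, ψ v = 0 → t • v = 0) :
    Function.Bijective (LocalizedModule.map (Submonoid.powers t) ψ) := by
  refine ⟨CokerProj.map_powers_injective ψ t fun p hp m hm ↦ ⟨t, hp, hi m hm⟩, ?_⟩
  exact FlatGenStable.map_surjective_of_smul _ ψ ⟨t, Submonoid.mem_powers t⟩ hs

section

variable {n k : ℕ} {x : Fin n → M} {f : R}

/-- For every prime some defining determinant is `f` times an element outside it. -/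
lemma exists_det_eq (hf0 : f ∈ nonZeroDivisors R) (hf : D R x k = Ideal.span {f})
    (p : PrimeSpectrum R) :
    ∃ (a : Matrix (Fin n) (Fin n) R) (T : Finset (Fin n)) (t : R),
      T.card = n - k ∧ (∀ i ∈ T, a i ∈ Rel (R := R) x) ∧ a.det = f * t ∧ t ∉ p.asIdeal := by
  by_contra hno
  push Not at hno
  have hle : D R x k ≤ Ideal.span {f} * p.asIdeal := Ideal.span_le.2 fun d hd ↦ by
    obtain ⟨a, T, hT, ha, rfl⟩ := hd
    obtain ⟨T', hT', hc⟩ := Finset.exists_subset_card_eq hT
    obtain ⟨t, ht⟩ := Ideal.mem_span_singleton'.1 (hf ▸ det_mem_D T hT ha)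
    rw [SetLike.mem_coe, ← ht, mul_comm t f]
    exact Ideal.mul_mem_mul (Ideal.mem_span_singleton_self f)
      (hno a T' t hc (fun i hi ↦ ha i (hT' hi)) (by rw [← ht, mul_comm]))
  obtain ⟨j, hj, hje⟩ := Ideal.mem_span_singleton_mul.1 (hle (hf ▸ Ideal.mem_span_singleton_self f))
  have : j - 1 = 0 := (mem_nonZeroDivisors_iff_left.1 hf0) _ (by rw [mul_sub, hje, mul_one, sub_self])
  exact p.2.ne_top ((Ideal.eq_top_iff_one _).2 (sub_eq_zero.1 this ▸ hj))

lemma det_updateRow_eq_zero {a : Matrix (Fin n) (Fin n) R} {T : Finset (Fin n)}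
    (hT : T.card = n - k) (ha : ∀ i ∈ T, a i ∈ Rel (R := R) x)
    (hk : k = 0 ∨ D R x (k - 1) = ⊥) {i : Fin n} (hi : i ∉ T) {w : Fin n → R}
    (hw : w ∈ Rel (R := R) x) : (a.updateRow i w).det = 0 := by
  rcases hk with rfl | hk
  · exact absurd (Finset.eq_univ_of_card T (le_antisymm (Finset.card_le_univ T) (by simp [hT])) ▸
      Finset.mem_univ i) hi
  · have := det_mem_D (k := k - 1) (x := x) (a := a.updateRow i w) (insert i T)
      (by rw [Finset.card_insert_of_notMem hi]; omega) (fun l hl ↦ by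
        rcases Finset.mem_insert.1 hl with rfl | hl
        · rwa [Matrix.updateRow_self]
        · rw [Matrix.updateRow_ne (ne_of_mem_of_not_mem hl hi)]; exact ha l hl)
    rwa [hk, Ideal.mem_bot] at this

lemma det_smul_row (a : Matrix (Fin n) (Fin n) R) (w : Fin n → R) :
    a.det • w = ∑ i, (a.updateRow i w).det • a i := by
  have h : ∀ i, (a.updateRow i w).det = (Matrix.vecMul w a.adjugate) i := fun i ↦ by
    rw [show w = ∑ l, w l • (Pi.single l (1 : R) : Fin n → R) from pi_eq_sum_univ' w]
    let L : (Fin n → R) →ₗ[R] R :=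
      { toFun := fun v ↦ (a.updateRow i v).det
        map_add' := fun u v ↦ Matrix.det_updateRow_add a i u v
        map_smul' := fun c v ↦ Matrix.det_updateRow_smul a i c v }
    change L _ = _
    rw [map_sum, ← pi_eq_sum_univ' w]
    simp [L, Matrix.vecMul, dotProduct, Matrix.adjugate_apply]
  simp_rw [h]
  calc a.det • w = Matrix.vecMul (Matrix.vecMul w a.adjugate) a := by
        rw [Matrix.vecMul_vecMul, Matrix.adjugate_mul, Matrix.vecMul_smul, Matrix.vecMul_one]
    _ = _ := Matrix.vecMul_eq_sum _ _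

/-- The relation module is projective. -/
lemma projective_rel [Module.Finite R (Rel (R := R) x)] (hf0 : f ∈ nonZeroDivisors R)
    (hf : D R x k = Ideal.span {f}) (hk : k = 0 ∨ D R x (k - 1) = ⊥) :
    Module.Projective R (Rel (R := R) x) := by
  classical
  refine projective_of_local_free fun p ↦ ?_
  obtain ⟨a, T, t, hT, ha, hdet, htp⟩ := exists_det_eq hf0 hf p
  let ψ : (Fin T.card → R) →ₗ[R] Rel (R := R) x :=
    Fintype.linearCombination R fun i ↦ ⟨a (T.equivFin.symm i), ha _ (T.equivFin.symm i).2⟩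
  have hψ : ∀ v, (ψ v : Fin n → R) = ∑ i, v i • a (T.equivFin.symm i) := fun v ↦ by
    simp [ψ, Fintype.linearCombination_apply]
  refine ⟨t, T.card, ψ, htp, map_powers_bijective ψ t (fun ⟨w, hw⟩ ↦ ?_) fun v hv ↦ ?_⟩
  · have hc : ∀ i : T, ∃ c, (a.updateRow i w).det = f * c := fun i ↦ by
      obtain ⟨c, hc⟩ := Ideal.mem_span_singleton'.1 (hf ▸ det_mem_D (k := k) (x := x)
        (a := a.updateRow i w) T hT.ge fun l hl ↦ by
          rcases eq_or_ne l i with rfl | hli
          · rwa [Matrix.updateRow_self]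
          · rw [Matrix.updateRow_ne hli]; exact ha l hl)
      exact ⟨c, by rw [← hc, mul_comm]⟩
    choose c hc using hc
    refine ⟨fun i ↦ c (T.equivFin.symm i), Subtype.ext ?_⟩
    rw [hψ, Submodule.coe_smul]
    funext j
    have h1 := congrFun (det_smul_row a w) j
    rw [Finset.sum_apply, ← Finset.sum_subset (Finset.subset_univ T) (fun i _ hi ↦ by
      rw [det_updateRow_eq_zero hT ha hk hi hw, zero_smul]; rfl), ← Finset.sum_coe_sort] at h1
    rw [Finset.sum_apply]
    refine sub_eq_zero.1 ((mem_nonZeroDivisors_iff_left.1 hf0) _ ?_)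
    rw [mul_sub, sub_eq_zero, ← Equiv.sum_comp T.equivFin, Finset.mul_sum]
    simp only [Pi.smul_apply, smul_eq_mul, Equiv.symm_apply_apply] at h1 ⊢
    rw [← mul_assoc, ← hdet, h1]
    exact Finset.sum_congr rfl fun i _ ↦ by rw [hc i, mul_assoc]
  · have hv' : ∑ i, v i • a (T.equivFin.symm i) = 0 := by rw [← hψ, hv]; rfl
    let c : Fin n → R := fun i ↦ if hi : i ∈ T then v (T.equivFin ⟨i, hi⟩) else 0
    have hc : Matrix.vecMul c a = 0 := by
      rw [Matrix.vecMul_eq_sum, ← Finset.sum_subset (Finset.subset_univ T) (fun i _ hi ↦ by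
        simp [c, hi]), ← Finset.sum_coe_sort, ← hv']
      refine Fintype.sum_equiv T.equivFin _ _ fun i ↦ ?_
      simp [c, i.2]
    have hd : a.det • c = 0 := by
      have h2 := congrArg (fun w ↦ Matrix.vecMul w a.adjugate) hc
      simpa [Matrix.vecMul_vecMul, Matrix.mul_adjugate, Matrix.vecMul_smul] using h2
    funext i
    have h3 := congrFun hd (T.equivFin.symm i).1
    simp only [Pi.smul_apply, smul_eq_mul, Pi.zero_apply, c, Finset.coe_mem, dite_true,
      Subtype.coe_eta, Equiv.apply_symm_apply, hdet, mul_assoc] at h3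
    simpa using (mem_nonZeroDivisors_iff_left.1 hf0) _ h3

/-- `M` modulo its `f`-torsion is locally free of rank `k`. -/
lemma exists_bijective_quot (hx : Submodule.span R (Set.range x) = ⊤) (hf0 : f ∈ nonZeroDivisors R)
    (hf : D R x k = Ideal.span {f}) (hk : k = 0 ∨ D R x (k - 1) = ⊥) (hkn : k ≤ n)
    (p : PrimeSpectrum R) :
    ∃ (t : R) (ψ : (Fin k → R) →ₗ[R] M ⧸ LinearMap.ker (f • (LinearMap.id : M →ₗ[R] M))),
      t ∉ p.asIdeal ∧ Function.Bijective (LocalizedModule.map (Submonoid.powers t) ψ) := by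
  classical
  obtain ⟨a, T, t, hT, ha, hdet, htp⟩ := exists_det_eq hf0 hf p
  have hcard : Tᶜ.card = k := by rw [Finset.card_compl, Fintype.card_fin]; omega
  let e : (Tᶜ : Finset (Fin n)) ≃ Fin k := Tᶜ.equivFinOfCardEq hcard
  let y : Fin n → M := fun i ↦ ∑ l, a i l • x l
  let ψ : (Fin k → R) →ₗ[R] M ⧸ LinearMap.ker (f • (LinearMap.id : M →ₗ[R] M)) :=
    Fintype.linearCombination R fun i ↦ Submodule.Quotient.mk (y (e.symm i))
  have hψ : ∀ v, ψ v = Submodule.Quotient.mk (∑ i, v (e i) • y i) := fun v ↦ by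
    simp only [ψ, Fintype.linearCombination_apply, ← Submodule.mkQ_apply, map_sum, map_smul]
    exact Fintype.sum_equiv e.symm _ _ fun i ↦ by simp
  refine ⟨t, ψ, htp, map_powers_bijective ψ t (fun q ↦ ?_) fun v hv ↦ ?_⟩
  · obtain ⟨m, rfl⟩ := Submodule.Quotient.mk_surjective _ q
    suffices ∀ j, t • (Submodule.Quotient.mk (x j) :
        M ⧸ LinearMap.ker (f • (LinearMap.id : M →ₗ[R] M))) ∈ LinearMap.range ψ by
      obtain ⟨c, rfl⟩ := (Submodule.mem_span_range_iff_exists_fun R).1
        (hx ▸ Submodule.mem_top : m ∈ _)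
      change _ ∈ LinearMap.range ψ
      rw [← Submodule.mkQ_apply (LinearMap.ker (f • (LinearMap.id : M →ₗ[R] M))), map_sum,
        Finset.smul_sum]
      refine sum_mem fun j _ ↦ ?_
      rw [map_smul, smul_comm]
      exact (LinearMap.range ψ).smul_mem _ (this j)
    intro j
    have hc : ∀ i : (Tᶜ : Finset (Fin n)), ∃ c, a.adjugate j i = c * f := fun i ↦ by
      obtain ⟨c, hc⟩ := Ideal.mem_span_singleton'.1 (hf ▸ det_mem_D (k := k) (x := x)
        (a := a.updateRow i (Pi.single j 1)) T hT.ge fun l hl ↦ by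
          rw [Matrix.updateRow_ne (ne_of_mem_of_not_mem hl (Finset.mem_compl.1 i.2))]; exact ha l hl)
      exact ⟨c, by rw [Matrix.adjugate_apply, hc]⟩
    choose c hc using hc
    refine ⟨fun i ↦ c (e.symm i), ?_⟩
    rw [hψ, ← Submodule.Quotient.mk_smul]
    refine (Submodule.Quotient.eq _).2 ?_
    rw [LinearMap.mem_ker, LinearMap.smul_apply, LinearMap.id_apply, smul_sub, sub_eq_zero,
      ← mul_smul, ← hdet, det_smul, Finset.smul_sum,
      ← Finset.sum_subset (Finset.subset_univ Tᶜ) fun i _ hi ↦ by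
        rw [mem_rel.1 (ha i (by simpa using hi)), smul_zero], ← Finset.sum_coe_sort Tᶜ]
    exact Finset.sum_congr rfl fun i _ ↦ by
      rw [Equiv.symm_apply_apply, hc i, ← mul_smul, mul_comm]
  · rw [hψ, Submodule.Quotient.mk_eq_zero, LinearMap.mem_ker, LinearMap.smul_apply,
      LinearMap.id_apply] at hv
    let w : Fin n → R := f • ∑ i : (Tᶜ : Finset (Fin n)), v (e i) • a i
    have hw : w ∈ Rel (R := R) x := by
      rw [mem_rel, ← hv]
      simp only [w, y, Finset.sum_apply, Pi.smul_apply, smul_eq_mul, Finset.smul_sum,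
        Finset.sum_smul, mul_smul]
      exact Finset.sum_comm
    funext l
    set i := e.symm l with hi
    have h0 := det_updateRow_eq_zero hT ha hk (Finset.mem_compl.1 i.2) hw
    let L : (Fin n → R) →ₗ[R] R :=
      { toFun := fun u ↦ (a.updateRow i u).det
        map_add' := fun u u' ↦ Matrix.det_updateRow_add a i u u'
        map_smul' := fun c u ↦ Matrix.det_updateRow_smul a i c u }
    change L w = 0 at h0
    rw [map_smul, map_sum, Finset.sum_eq_single i (fun j _ hj ↦ by
      rw [map_smul]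
      have : L (a j) = 0 := Matrix.det_zero_of_row_eq (i := (i : Fin n)) (j := (j : Fin n))
        (fun h ↦ hj (Subtype.ext h).symm) (by
          rw [Matrix.updateRow_self, Matrix.updateRow_ne fun h ↦ hj (Subtype.ext h)])
      rw [this, smul_zero]) (by simp), map_smul] at h0
    have h1 : L (a i) = a.det := by
      change (a.updateRow i (a i)).det = _
      rw [Matrix.updateRow_eq_self]
    rw [h1, hdet, smul_eq_mul, smul_eq_mul, hi, Equiv.apply_symm_apply] at h0
    have h2 : t * v l = 0 := (mem_nonZeroDivisors_iff_left.1 hf0) _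
      ((mem_nonZeroDivisors_iff_left.1 hf0) _ (by rw [← h0]; ring))
    simpa using h2

end

end Groth.Agent.FittLib
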